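import Groth.Agent.ResolveCurve.Basic
import Groth.Agent.S8914

/-!
Resolution of curves by blowing up points.
-/

set_option autoImplicit false
set_option backward.isDefEq.respectTransparency false
set_option backward.isDefEq.respectTransparency.types false
set_option linter.style.haveILetI false
set_option maxHeartbeats 1000000

universe u

open CategoryTheory CategoryTheory.Limits AlgebraicGeometry TopologicalSpace Opposite

noncomputable section

namespace Groth.Agent.ResolveCurve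

/-- proper birational morphism with integral source -/
def IsModif {Z Y : Scheme.{u}} (r : Z ⟶ Y) : Prop :=
  IsProper r ∧ IsIntegral Z ∧ ∃ V : Y.Opens, (V : Set Y).Nonempty ∧ IsIso (r ∣_ V)

theorem isIso_restrict_le {Z Y : Scheme.{u}} (r : Z ⟶ Y) {V V' : Y.Opens} (hle : V' ≤ V) [IsIso (r ∣_ V)] :
    IsIso (r ∣_ V') := by
  have h : IsIso ((r ∣_ V) ∣_ (V.ι ⁻¹ᵁ V')) := inferInstance
  have e := morphismRestrictRestrict r V (V.ι ⁻¹ᵁ V')
  have h' : IsIso (r ∣_ (V.ι ''ᵁ (V.ι ⁻¹ᵁ V'))) :=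
    ((MorphismProperty.isomorphisms Scheme.{u}).arrow_mk_iso_iff e).1 h
  rwa [Scheme.Hom.image_preimage_eq_opensRange_inf, Scheme.Opens.opensRange_ι, inf_eq_right.2 hle] at h'

theorem exists_ne_genericPoint {Y : Scheme.{u}} [IsIntegral Y] (hdim : topologicalKrullDim Y = 1) :
    ∃ y : Y, y ≠ genericPoint Y := by
  by_contra h
  push Not at h
  haveI : Subsingleton Y := ⟨fun a b => (h a).trans (h b).symm⟩
  have h0 : topologicalKrullDim Y ≤ (0 : ℕ) := Unibranch.topologicalKrullDim_le_natCast (e := 0) fun n s hs => by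
    by_contra hn
    obtain ⟨-, hne⟩ := hs ⟨0, by omega⟩
    exact hne (Subsingleton.elim _ _)
  rw [hdim] at h0
  exact absurd h0 (by decide)

theorem not_isClosed_genericPoint {Y : Scheme.{u}} [IsIntegral Y] (hdim : topologicalKrullDim Y = 1) :
    ¬ IsClosed ({genericPoint Y} : Set Y) := fun h => by
  obtain ⟨y, hy⟩ := exists_ne_genericPoint hdim
  exact hy ((genericPoint_specializes y).mem_closed h rfl)

theorem isClosed_image {Z Y : Scheme.{u}} (r : Z ⟶ Y) [IsProper r] {z : Z} (hz : IsClosed ({z} : Set Z)) :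
    IsClosed ({r z} : Set Y) := by
  have := r.isClosedMap _ hz
  rwa [Set.image_singleton] at this

theorem support_point {Z : Scheme.{u}} {z : Z} (hz : IsClosed ({z} : Set Z)) :
    ((Scheme.IdealSheafData.vanishingIdeal ⟨{z}, hz⟩).support : Set Z) = {z} := by
  rw [Scheme.IdealSheafData.coe_support_vanishingIdeal]
  rfl

theorem vanishingIdeal_ne_bot {Z : Scheme.{u}} {z w : Z} (hw : w ≠ z) (hz : IsClosed ({z} : Set Z)) :
    Scheme.IdealSheafData.vanishingIdeal ⟨{z}, hz⟩ ≠ ⊥ := fun h => by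
  have : w ∈ ((Scheme.IdealSheafData.vanishingIdeal ⟨{z}, hz⟩).support : Set Z) := by
    rw [h, Scheme.IdealSheafData.support_bot]
    trivial
  rw [support_point hz] at this
  exact hw this

/-- one blow-up step keeps a modification -/
theorem isModif_step {X' Z Y : Scheme.{u}} [IsIntegral Y] [IsNoetherian Y] (hdim : topologicalKrullDim Y = 1)
    (b : X' ⟶ Z) (r : Z ⟶ Y) {z : Z} (hz : IsClosed ({z} : Set Z))
    (hb : BlowUp.IsBlowUp b (Scheme.IdealSheafData.vanishingIdeal ⟨{z}, hz⟩)) (hr : IsModif r) :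
    IsModif (b ≫ r) := by
  obtain ⟨hp, hi, V, hV, hiso⟩ := hr
  haveI := hp
  haveI := hi
  haveI := hiso
  haveI : IsLocallyNoetherian Z := LocallyOfFiniteType.isLocallyNoetherian r
  have hrz : r z ≠ genericPoint Y := fun h => not_isClosed_genericPoint hdim (h ▸ isClosed_image r hz)
  have hzη : genericPoint Z ≠ z := fun h => hrz (h ▸ genericPoint_image r hV)
  haveI : IsProper b := BlowUpExist.isProper_of_isFiniteType hb fun U => by
    haveI : IsNoetherianRing Γ(Z, U.1) := IsLocallyNoetherian.component_noetherian U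
    exact IsNoetherian.noetherian _
  haveI := BlowUpLib.isIso_restrict hb
  let W : Y.Opens := ⟨({r z} : Set Y)ᶜ, (isClosed_image r hz).isOpen_compl⟩
  refine ⟨inferInstance, W7Fib.isIntegral_blowUp (vanishingIdeal_ne_bot hzη hz) hb, V ⊓ W,
    ⟨genericPoint Y, (genericPoint_specializes hV.some).mem_open V.isOpen hV.some_mem, fun h => hrz h.symm⟩, ?_⟩
  haveI := isIso_restrict_le r (inf_le_left : V ⊓ W ≤ V)
  haveI : IsIso (b ∣_ (r ⁻¹ᵁ (V ⊓ W))) := by
    refine isIso_restrict_le b (V := (Scheme.IdealSheafData.vanishingIdeal ⟨{z}, hz⟩).support.compl) fun w hw => ?_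
    show w ∉ ((Scheme.IdealSheafData.vanishingIdeal ⟨{z}, hz⟩).support : Set Z)
    rw [support_point hz]
    intro h
    exact hw.2 (congrArg r.base (h : w = z))
  rw [morphismRestrict_comp]
  infer_instance

theorem isModif_of_seq {Z Y : Scheme.{u}} {r : Z ⟶ Y} (h : Resolve.IsPtBlowupSeq r) :
    ∀ [IsIntegral Y] [IsNoetherian Y], topologicalKrullDim Y = 1 → IsModif r := by
  induction h with
  | @iso Z Y e =>
    intro _ _ _
    haveI : Nonempty Z := ⟨e.inv (genericPoint Y)⟩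
    exact ⟨inferInstance, isIntegral_of_isOpenImmersion e.hom, ⊤, ⟨genericPoint Y, trivial⟩, inferInstance⟩
  | step b r z hz hb hr ih =>
    intro _ _ hdim
    exact isModif_step hdim b r hz hb (ih hdim)

theorem dim_eq_one {Z : Scheme.{u}} [IsIntegral Z] (hle : topologicalKrullDim Z ≤ 1) {z : Z}
    (hz : IsClosed ({z} : Set Z)) (hne : genericPoint Z ≠ z) : topologicalKrullDim Z = 1 := by
  refine le_antisymm hle ?_
  refine Order.one_le_krullDim_iff.2 ⟨⟨{z}, isIrreducible_singleton, hz⟩, ⟨Set.univ, (IrreducibleSpace.isIrreducible_univ Z), isClosed_univ⟩, ?_⟩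
  refine lt_of_le_of_ne (fun _ _ => trivial) fun h => ?_
  have h' : ({z} : Set Z) = Set.univ := congrArg (fun c : IrreducibleCloseds Z => (c : Set Z)) h
  have : genericPoint Z ∈ ({z} : Set Z) := by rw [h']; trivial
  exact hne this

/-- regular curve: blow-up of a point is trivial; conversely -/
theorem isRegular_of_isIso_blowUp {X' Z : Scheme.{u}} [IsIntegral Z] [IsLocallyNoetherian Z]
    (hdim : topologicalKrullDim Z = 1) (b : X' ⟶ Z) {z : Z} (hz : IsClosed ({z} : Set Z))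
    (hb : BlowUp.IsBlowUp b (Scheme.IdealSheafData.vanishingIdeal ⟨{z}, hz⟩)) [IsIso b] :
    IsRegularLocalRing (Z.presheaf.stalk z) := by
  refine (CurvePtCartier.isInvertible_iff_regular (fun C hC => ?_) hz).1 ((Groth.Agent.S8914.result _).2 ?_)
  · rw [irreducibleComponents_eq_singleton] at hC
    rw [Set.mem_singleton_iff.1 hC, (Homeomorph.Set.univ Z).isHomeomorph.topologicalKrullDim_eq]
    exact hdim
  · have h := BlowUpLib.cartier_comap_flat hb.1 (inv b)
    rwa [← Scheme.IdealSheafData.comap_comp, IsIso.inv_hom_id, Scheme.IdealSheafData.comap_id] at h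

theorem appLE_injective {X Y : Scheme.{u}} [IsIntegral X] [IsIntegral Y] (f : X ⟶ Y)
    (hη : f (genericPoint X) = genericPoint Y) {U : Y.Opens} {W : X.Opens} (e : W = f ⁻¹ᵁ U) :
    Function.Injective (f.appLE U W e.le).hom := by
  subst e
  rw [← Scheme.Hom.app_eq_appLE]
  exact app_injective f hη U

variable {X Y : Scheme.{u}} (g : X ⟶ Y)

/-- sections over `U` pulled back from an intermediate scheme -/
def imgSub {Z : Scheme.{u}} (h : X ⟶ Z) (r : Z ⟶ Y) (hrg : h ≫ r = g) (U : Y.Opens) :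
    letI := (g.app U).hom.toAlgebra
    Submodule Γ(Y, U) Γ(X, g ⁻¹ᵁ U) :=
  letI := (g.app U).hom.toAlgebra
  { carrier := Set.range (h.appLE (r ⁻¹ᵁ U) (g ⁻¹ᵁ U) (by subst hrg; exact le_rfl))
    zero_mem' := ⟨0, map_zero _⟩
    add_mem' := by
      rintro _ _ ⟨a, rfl⟩ ⟨b, rfl⟩
      exact ⟨a + b, map_add _ _ _⟩
    smul_mem' := by
      rintro c _ ⟨a, rfl⟩
      refine ⟨r.app U c * a, ?_⟩
      rw [map_mul]
      subst hrg
      rw [Algebra.smul_def]
      congr 1
      simp [Scheme.Hom.appLE, RingHom.algebraMap_toAlgebra] }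

theorem mem_imgSub {Z : Scheme.{u}} (h : X ⟶ Z) (r : Z ⟶ Y) (hrg : h ≫ r = g) (U : Y.Opens) (v : Γ(X, g ⁻¹ᵁ U)) :
    v ∈ imgSub g h r hrg U ↔ ∃ a, h.appLE (r ⁻¹ᵁ U) (g ⁻¹ᵁ U) (by subst hrg; exact le_rfl) a = v := Iff.rfl

theorem exists_seq_of_resolution [IsIntegral Y] [IsNoetherian Y] (hdim : topologicalKrullDim Y = 1)
    (hg : IsResolution g) :
    ∃ (Y' : Scheme.{u}) (g' : Y' ⟶ Y), Resolve.IsPtBlowupSeq g' ∧ ∀ y : Y', IsRegularLocalRing (Y'.presheaf.stalk y) := by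
  obtain ⟨hgp, hXi, ⟨V₀, hV₀, hgiso⟩, hXreg⟩ := hg
  haveI := hgp
  haveI := hXi
  haveI := hgiso
  haveI := isFinite_of_birational g hdim.le hV₀
  haveI : IsLocallyNoetherian X := LocallyOfFiniteType.isLocallyNoetherian g
  have hXdim := dim_le_of_finite g hdim.le
  have hgη := genericPoint_image g hV₀
  obtain ⟨t, ht⟩ := isCompact_univ.elim_finite_subcover (fun U : Y.affineOpens => ((U.1 : Y.Opens) : Set Y))
    (fun U => U.1.isOpen) fun y _ => by
      obtain ⟨U, hU, hyU, -⟩ := exists_isAffineOpen_mem_and_subset (x := y) (U := (⊤ : Y.Opens)) trivial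
      exact Set.mem_iUnion.2 ⟨⟨U, hU⟩, hyU⟩
  letI : ∀ i : ↥t, Algebra Γ(Y, i.1.1) Γ(X, g ⁻¹ᵁ i.1.1) := fun i => (g.app i.1.1).hom.toAlgebra
  haveI : ∀ i : ↥t, IsNoetherian Γ(Y, i.1.1) Γ(X, g ⁻¹ᵁ i.1.1) := fun i => by
    haveI : IsNoetherianRing Γ(Y, i.1.1) := IsLocallyNoetherian.component_noetherian i.1
    haveI : Module.Finite Γ(Y, i.1.1) Γ(X, g ⁻¹ᵁ i.1.1) := g.finite_app _ i.1.2
    exact isNoetherian_of_isNoetherianRing_of_finite _ _
  haveI := wellFoundedGT_pi (α := fun i : ↥t => Submodule Γ(Y, i.1.1) Γ(X, g ⁻¹ᵁ i.1.1))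
  suffices H : ∀ (P : ∀ i : ↥t, Submodule Γ(Y, i.1.1) Γ(X, g ⁻¹ᵁ i.1.1)) (Z : Scheme.{u}) (h : X ⟶ Z) (r : Z ⟶ Y)
      (hrg : h ≫ r = g), Resolve.IsPtBlowupSeq r → (∀ i : ↥t, imgSub g h r hrg i.1.1 = P i) →
      ∃ (Y' : Scheme.{u}) (g' : Y' ⟶ Y), Resolve.IsPtBlowupSeq g' ∧ ∀ y : Y', IsRegularLocalRing (Y'.presheaf.stalk y) from
    H (fun i => imgSub g g (𝟙 Y) (Category.comp_id g) i.1.1) Y g (𝟙 Y) (Category.comp_id g) (.iso (Iso.refl Y)) (fun _ => rfl)
  intro P
  induction P using WellFoundedGT.induction with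
  | ind P ih =>
  intro Z h r hrg hseq hP
  obtain ⟨hrp, hZi, V, hV, hriso⟩ := isModif_of_seq hseq hdim
  haveI := hrp
  haveI := hZi
  haveI := hriso
  haveI : IsLocallyNoetherian Z := LocallyOfFiniteType.isLocallyNoetherian r
  haveI := isFinite_of_birational r hdim.le hV
  by_cases hreg : ∀ z : Z, IsRegularLocalRing (Z.presheaf.stalk z)
  · exact ⟨Z, r, hseq, hreg⟩
  push Not at hreg
  obtain ⟨z, hz⟩ := hreg
  have hrη := genericPoint_image r hV
  have hzη : z ≠ genericPoint Z := fun e => hz (by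
    subst e
    letI : Field (Z.presheaf.stalk (genericPoint Z)) := (isField_stalk_genericPoint Z).toField
    infer_instance)
  have hZdim := dim_le_of_finite r hdim.le
  have hzc := isClosed_of_ne_genericPoint hZdim hzη
  have hhη : h (genericPoint X) = genericPoint Z := by
    by_contra hne
    refine not_isClosed_genericPoint hdim ?_
    have := isClosed_image r (isClosed_of_ne_genericPoint hZdim hne)
    rwa [← Scheme.Hom.comp_apply, hrg, hgη] at this
  obtain ⟨Z1, b, hb⟩ := BlowUpExist.exists_isBlowUp Z (Scheme.IdealSheafData.vanishingIdeal ⟨{z}, hzc⟩)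
  obtain ⟨h', hh', -⟩ := hb.2 X h (cartier_of_regular hXdim hXreg _ fun hmem => by
    rw [Scheme.IdealSheafData.support_comap] at hmem
    have : h (genericPoint X) ∈ ((Scheme.IdealSheafData.vanishingIdeal ⟨{z}, hzc⟩).support : Set Z) := hmem
    rw [support_point hzc, hhη] at this
    exact hzη (Set.mem_singleton_iff.1 this).symm)
  have hseq' : Resolve.IsPtBlowupSeq (b ≫ r) := .step b r z hzc hb hseq
  have hrg' : h' ≫ b ≫ r = g := by rw [← Category.assoc, hh', hrg]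
  obtain ⟨hbrp, hZ1i, V1, hV1, hbriso⟩ := isModif_of_seq hseq' hdim
  haveI := hbrp
  haveI := hZ1i
  haveI := hbriso
  haveI := isFinite_of_birational (b ≫ r) hdim.le hV1
  haveI : IsFinite b := IsFinite.of_comp b r
  refine ih (fun i => imgSub g h' (b ≫ r) hrg' i.1.1) ?_ Z1 h' (b ≫ r) hrg' hseq' (fun _ => rfl)
  have key : ∀ (U : Y.Opens) (a : Γ(Z, r ⁻¹ᵁ U)),
      h.appLE (r ⁻¹ᵁ U) (g ⁻¹ᵁ U) (by subst hrg; exact le_rfl) a =
        h'.appLE ((b ≫ r) ⁻¹ᵁ U) (g ⁻¹ᵁ U) (by subst hrg'; exact le_rfl) (b.app (r ⁻¹ᵁ U) a) := fun U a => by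
    subst hh'
    rw [Scheme.Hom.comp_appLE]
    rfl
  have hle : P ≤ fun i : ↥t => imgSub g h' (b ≫ r) hrg' i.1.1 := fun i => by
    show P i ≤ imgSub g h' (b ≫ r) hrg' i.1.1
    rw [← hP i]
    intro v hv
    obtain ⟨a, ha⟩ := (mem_imgSub g h r hrg _ v).1 hv
    exact (mem_imgSub g h' (b ≫ r) hrg' _ v).2 ⟨_, (key _ a).symm.trans ha⟩
  refine lt_of_le_of_ne hle fun heq => hz ?_
  have h'η : h' (genericPoint X) = genericPoint Z1 := by
    by_contra hne
    refine not_isClosed_genericPoint hdim ?_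
    have := isClosed_image (b ≫ r) (isClosed_of_ne_genericPoint (dim_le_of_finite (b ≫ r) hdim.le) hne)
    rwa [← Scheme.Hom.comp_apply, hrg', hgη] at this
  have hbη : b (genericPoint Z1) = genericPoint Z := by
    rw [← h'η, ← Scheme.Hom.comp_apply, hh', hhη]
  have hbij : ∀ i : ↥t, IsIso (b ∣_ (r ⁻¹ᵁ i.1.1)) := fun i => by
    refine isIso_morphismRestrict_of_app b (i.1.2.preimage r) ⟨app_injective b hbη _, fun c => ?_⟩
    have e : g ⁻¹ᵁ i.1.1 = h' ⁻¹ᵁ ((b ≫ r) ⁻¹ᵁ i.1.1) := by subst hrg'; rfl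
    have hc : h'.appLE ((b ≫ r) ⁻¹ᵁ i.1.1) (g ⁻¹ᵁ i.1.1) e.le c ∈ imgSub g h r hrg i.1.1 := by
      rw [hP i, heq]
      exact (mem_imgSub g h' (b ≫ r) hrg' _ _).2 ⟨c, rfl⟩
    obtain ⟨a, ha⟩ := (mem_imgSub g h r hrg _ _).1 hc
    refine ⟨a, ?_⟩
    have ha' := (key _ a).symm.trans ha
    have hinj := appLE_injective h' h'η e
    exact hinj ha'
  haveI : IsIso b := by
    refine (IsZariskiLocalAtTarget.iff_of_iSup_eq_top (P := MorphismProperty.isomorphisms Scheme.{u})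
      (fun i : ↥t => r ⁻¹ᵁ i.1.1) ?_).2 hbij
    refine eq_top_iff.2 fun w _ => ?_
    obtain ⟨U, hU⟩ := Set.mem_iUnion.1 (ht (Set.mem_univ (r w)))
    obtain ⟨hUt, hwU⟩ := Set.mem_iUnion.1 hU
    exact Opens.mem_iSup.2 ⟨⟨U, hUt⟩, hwU⟩
  exact isRegular_of_isIso_blowUp (dim_eq_one hZdim hzc hzη.symm) b hzc hb

theorem blowup_main (Y : Scheme.{u}) [IsIntegral Y] [IsNoetherian Y] (hdim : topologicalKrullDim Y = 1) :
    (∃ (X : Scheme.{u}) (g : X ⟶ Y), IsResolution g) ↔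
      ∃ (Y' : Scheme.{u}) (g : Y' ⟶ Y), Resolve.IsPtBlowupSeq g ∧ ∀ y : Y', IsRegularLocalRing (Y'.presheaf.stalk y) := by
  refine ⟨fun ⟨X, g, hg⟩ => exists_seq_of_resolution g hdim hg, fun ⟨Y', g, hseq, hreg⟩ => ?_⟩
  obtain ⟨h1, h2, h3⟩ := isModif_of_seq hseq hdim
  exact ⟨Y', g, h1, h2, h3, hreg⟩

end Groth.Agent.ResolveCurve
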