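import Groth.Agent.ResolveCurve.Equiv
import Groth.Agent.ResolveCurve.Blowup
import Groth.Agent.S10920

/-!
Embedded resolution of curves: strict transforms under blowing up points.
-/

set_option autoImplicit false
set_option backward.isDefEq.respectTransparency false
set_option backward.isDefEq.respectTransparency.types false
set_option linter.style.haveILetI false
set_option maxHeartbeats 1000000

universe u

open CategoryTheory CategoryTheory.Limits AlgebraicGeometry TopologicalSpace Opposite

noncomputable section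

namespace Groth.Agent.ResolveCurve

theorem comap_map_eq_self {C X : Scheme.{u}} (j : C ⟶ X) [IsClosedImmersion j] (J : C.IdealSheafData) :
    (J.map j).comap j = J := by
  refine le_antisymm (Scheme.IdealSheafData.le_map_iff_comap_le.1 le_rfl) ?_
  have h : J.map j ≤ ((J.map j).comap j).map j := Scheme.IdealSheafData.le_map_iff_comap_le.2 le_rfl
  refine Scheme.IdealSheafData.le_of_iSup_eq_top (fun U : X.affineOpens => (⟨j ⁻¹ᵁ U.1, U.2.preimage j⟩ : C.affineOpens))
    ?_ fun U s hs => ?_
  · refine eq_top_iff.2 fun c _ => ?_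
    obtain ⟨U, hU, hcU, -⟩ := exists_isAffineOpen_mem_and_subset (x := j c) (U := (⊤ : X.Opens)) trivial
    exact Opens.mem_iSup.2 ⟨⟨U, hU⟩, hcU⟩
  · obtain ⟨s, rfl⟩ := j.app_surjective U.1 U.2 s
    have h' := h U
    rw [Scheme.IdealSheafData.ideal_map_of_isAffineHom, Scheme.IdealSheafData.ideal_map_of_isAffineHom] at h'
    exact h' hs

theorem comap_vanishingIdeal_point {C X : Scheme.{u}} (j : C ⟶ X) [IsClosedImmersion j] {z : C}
    (hz : IsClosed ({z} : Set C)) (hx : IsClosed ({j z} : Set X)) :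
    (Scheme.IdealSheafData.vanishingIdeal ⟨{j z}, hx⟩).comap j = Scheme.IdealSheafData.vanishingIdeal ⟨{z}, hz⟩ := by
  have h : Closeds.closure (j '' ((⟨{z}, hz⟩ : Closeds C) : Set C)) = (⟨{j z}, hx⟩ : Closeds X) := by
    ext1
    show closure (j '' {z}) = {j z}
    rw [Set.image_singleton, hx.closure_eq]
  rw [← h, ← Scheme.IdealSheafData.map_vanishingIdeal j (⟨{z}, hz⟩ : Closeds C)]
  exact comap_map_eq_self j _

theorem isProper_of_seq {Z Y : Scheme.{u}} {r : Z ⟶ Y} (h : Resolve.IsPtBlowupSeq r) :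
    ∀ [IsLocallyNoetherian Y], IsProper r := by
  induction h with
  | iso e => intro _; infer_instance
  | @step Y' Z Y b r z hz hb hr ih =>
    intro _
    haveI : IsProper r := ih
    haveI : IsLocallyNoetherian Z := LocallyOfFiniteType.isLocallyNoetherian r
    haveI : IsProper b := BlowUpExist.isProper_of_isFiniteType hb fun U => by
      haveI : IsNoetherianRing Γ(Z, U.1) := IsLocallyNoetherian.component_noetherian U
      exact IsNoetherian.noetherian _
    infer_instance

/-- a sequence of point blow-ups of a closed subscheme extends to the ambient scheme -/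
theorem exists_seq_ambient {C' C : Scheme.{u}} {g₀ : C' ⟶ C} (h : Resolve.IsPtBlowupSeq g₀) :
    ∀ {X : Scheme.{u}} [IsNoetherian X] (j : C ⟶ X) [IsClosedImmersion j],
      ∃ (X' : Scheme.{u}) (g : X' ⟶ X) (j' : C' ⟶ X'), Resolve.IsPtBlowupSeq g ∧ IsClosedImmersion j' ∧ j' ≫ g = g₀ ≫ j := by
  induction h with
  | iso e =>
    intro X _ j _
    exact ⟨X, 𝟙 X, e.hom ≫ j, .iso (Iso.refl X), inferInstance, Category.comp_id _⟩
  | @step C'' Z C b r z hz hb hr ih =>
    intro X _ j _
    obtain ⟨X1, g1, j1, hg1, hj1, hsq⟩ := ih j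
    haveI := hj1
    haveI : IsProper g1 := isProper_of_seq hg1
    haveI : IsLocallyNoetherian X1 := LocallyOfFiniteType.isLocallyNoetherian g1
    haveI : CompactSpace X1 := QuasiCompact.compactSpace_of_compactSpace g1
    haveI : IsNoetherian X1 := {}
    have hx : IsClosed ({j1 z} : Set X1) := by
      have := j1.isClosedEmbedding.isClosedMap _ hz
      rwa [Set.image_singleton] at this
    obtain ⟨X2, b2, hb2⟩ := BlowUpExist.exists_isBlowUp X1 (Scheme.IdealSheafData.vanishingIdeal ⟨{j1 z}, hx⟩)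
    have hb' : BlowUp.IsBlowUp b ((Scheme.IdealSheafData.vanishingIdeal ⟨{j1 z}, hx⟩).comap j1) := by
      rw [comap_vanishingIdeal_point j1 hz hx]
      exact hb
    obtain ⟨j2, hj2, -⟩ := hb2.2 C'' (b ≫ j1) (by
      rw [Scheme.IdealSheafData.comap_comp]
      exact hb'.1)
    refine ⟨X2, b2 ≫ g1, j2, .step b2 g1 _ hx hb2 hg1, Groth.Agent.S10920.result _ j1 b2 hb2 b hb' j2 hj2, ?_⟩
    rw [← Category.assoc, hj2, Category.assoc, hsq, Category.assoc]

theorem embedded_main (X : Scheme.{u}) [IsNoetherian X] (I : X.IdealSheafData) [IsIntegral I.subscheme]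
    (hdim : topologicalKrullDim ↥I.subscheme = 1) [QuasiCompact (I.subscheme.fromSpecStalk (genericPoint ↥I.subscheme))]
    [QuasiSeparated (I.subscheme.fromSpecStalk (genericPoint ↥I.subscheme))]
    (hfin : IsFinite (Curv2.normalizationι I.subscheme)) :
    ∃ (X' : Scheme.{u}) (g : X' ⟶ X), Resolve.IsPtBlowupSeq g ∧ ∃ (I' : X'.IdealSheafData) (g' : I'.subscheme ⟶ I.subscheme),
      IsIntegral I'.subscheme ∧ g' ≫ I.subschemeι = I'.subschemeι ≫ g ∧
      (∃ V : I.subscheme.Opens, (V : Set ↥I.subscheme).Nonempty ∧ IsIso (g' ∣_ V)) ∧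
      ∀ y : ↥I'.subscheme, IsRegularLocalRing (I'.subscheme.presheaf.stalk y) := by
  haveI : IsLocallyNoetherian I.subscheme := LocallyOfFiniteType.isLocallyNoetherian I.subschemeι
  haveI : CompactSpace I.subscheme := QuasiCompact.compactSpace_of_compactSpace I.subschemeι
  haveI : IsNoetherian I.subscheme := {}
  obtain ⟨C', g₀, hseq, hreg⟩ := (blowup_main I.subscheme hdim).1 ⟨_, _, resolution_of_finite_normalization I.subscheme hdim⟩
  obtain ⟨hg0p, hC'i, V, hV, hiso⟩ := isModif_of_seq hseq hdim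
  haveI := hC'i
  haveI := hiso
  obtain ⟨X', g, j', hg, hj', hsq⟩ := exists_seq_ambient hseq I.subschemeι
  haveI := hj'
  let e : C' ⟶ j'.ker.subscheme := j'.toImage
  haveI : IsIso e := inferInstanceAs (IsIso j'.toImage)
  haveI : IsIntegral j'.ker.subscheme := by
    haveI : Nonempty ↥j'.ker.subscheme := ⟨e (genericPoint C')⟩
    exact isIntegral_of_isOpenImmersion (inv e)
  refine ⟨X', g, hg, j'.ker, inv e ≫ g₀, inferInstance, ?_, ⟨V, hV, ?_⟩, fun y => ?_⟩
  · rw [Category.assoc, ← hsq, IsIso.inv_comp_eq, ← Category.assoc]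
    exact (congrArg (· ≫ g) j'.toImage_imageι).symm
  · rw [morphismRestrict_comp]
    infer_instance
  · haveI := hreg (inv e y)
    exact IsRegularLocalRing.of_ringEquiv (asIso ((inv e).stalkMap y)).commRingCatIsoToRingEquiv

end Groth.Agent.ResolveCurve
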