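import Groth.Agent.BiratFib.Basic
import Groth.Agent.CurvePtCartier.Main
import Groth.Agent.Unibranch.FibreDim
import Groth.Agent.AmpleDimOne.Top
import Groth.Agent.BlowUpExist.Global
import Groth.Agent.BlowUpExist.Proper
import Groth.Agent.W7Fib.Birat
import Groth.Agent.NormSmoothBC.Basic
import Groth.Agent.NormUniv.Basic
import Groth.Agent.W7Exist.Induct
import Groth.Agent.QC.Coherent
import Groth.Agent.RefStalk.Refl
import Groth.Agent.W7Nef.Normalise
import Groth.Agent.S9829
import Groth.Prelude.Def_ResolveSeq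

/-!
Resolution of curves: finiteness, normalisation, point blow-ups.
-/

set_option autoImplicit false
set_option backward.isDefEq.respectTransparency false
set_option backward.isDefEq.respectTransparency.types false
set_option linter.style.haveILetI false
set_option maxHeartbeats 1000000

universe u

open CategoryTheory CategoryTheory.Limits AlgebraicGeometry TopologicalSpace Opposite

noncomputable section

namespace Groth.Agent.ResolveCurve

/-- a resolution -/
def IsResolution {X Y : Scheme.{u}} (g : X ⟶ Y) : Prop :=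
  IsProper g ∧ IsIntegral X ∧ (∃ V : Y.Opens, (V : Set Y).Nonempty ∧ IsIso (g ∣_ V)) ∧
    ∀ x : X, IsRegularLocalRing (X.presheaf.stalk x)

theorem isIso_of_appTop {A B : Scheme.{u}} (b : A ⟶ B) [IsAffine A] [IsAffine B] (h : IsIso b.appTop) : IsIso b := by
  haveI := h
  haveI : IsIso (Spec.map b.appTop) := inferInstance
  rw [show b = A.isoSpec.hom ≫ Spec.map b.appTop ≫ B.isoSpec.inv by
    rw [← Category.assoc, Iso.eq_comp_inv, Scheme.isoSpec_hom_naturality]]
  infer_instance

theorem isIso_morphismRestrict_of_app {A B : Scheme.{u}} (b : A ⟶ B) [IsAffineHom b] {W : B.Opens}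
    (hW : IsAffineOpen W) (h : Function.Bijective (b.app W).hom) : IsIso (b ∣_ W) := by
  haveI : IsAffine W.toScheme := hW
  haveI : IsAffine (b ⁻¹ᵁ W).toScheme := hW.preimage b
  refine isIso_of_appTop _ ?_
  haveI : IsIso (b.app W) := (ConcreteCategory.isIso_iff_bijective _).2 h
  haveI : IsIso (b.app (W.ι ''ᵁ ⊤)) := by rw [W.ι_image_top]; infer_instance
  rw [Scheme.Hom.appTop, morphismRestrict_app]
  infer_instance

theorem nonempty_of_iso {X Y : Scheme.{u}} (g : X ⟶ Y) {V : Y.Opens} (hV : (V : Set Y).Nonempty) [IsIso (g ∣_ V)] :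
    ((g ⁻¹ᵁ V : X.Opens) : Set X).Nonempty := by
  obtain ⟨v, hv⟩ := hV
  exact ⟨((inv (g ∣_ V)) ⟨v, hv⟩).1, ((inv (g ∣_ V)) ⟨v, hv⟩).2⟩

theorem genericPoint_image {X Y : Scheme.{u}} [IsIntegral X] [IsIntegral Y] (g : X ⟶ Y) {V : Y.Opens}
    (hV : (V : Set Y).Nonempty) [IsIso (g ∣_ V)] : g (genericPoint X) = genericPoint Y := by
  have hη : genericPoint Y ∈ V := (genericPoint_specializes hV.some).mem_open V.isOpen hV.some_mem
  let x : X := ((inv (g ∣_ V)) ⟨genericPoint Y, hη⟩).1
  have hx : g x = genericPoint Y := by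
    have : ((g ∣_ V) ((inv (g ∣_ V)) ⟨genericPoint Y, hη⟩)) = (⟨genericPoint Y, hη⟩ : V.toScheme) := by
      rw [← Scheme.Hom.comp_apply, IsIso.inv_hom_id]; rfl
    have h' := congrArg (fun w => V.ι w) this
    simp only [← Scheme.Hom.comp_apply, Category.assoc, morphismRestrict_ι] at h'
    exact h'
  have h := (genericPoint_specializes x).map g.continuous
  rw [hx] at h
  exact (h.antisymm (genericPoint_specializes _)).eq

/-- proper birational morphisms to curves are finite -/
theorem isFinite_of_birational {X Y : Scheme.{u}} [IsIntegral X] [IsNoetherian Y] (g : X ⟶ Y) [IsProper g]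
    (hdim : topologicalKrullDim Y ≤ 1) {V : Y.Opens} (hV : (V : Set Y).Nonempty) [IsIso (g ∣_ V)] : IsFinite g := by
  haveI : IsLocallyNoetherian X := LocallyOfFiniteType.isLocallyNoetherian g
  haveI : LocallyQuasiFinite g := LocallyQuasiFinite.of_finite_preimage_singleton (f := g) fun y =>
    BiratFib.finite_fiber g V ((g ⁻¹ᵁ V).isOpen.dense (nonempty_of_iso g hV)) inferInstance y
      ((RegDual.ringKrullDim_stalk_le_topologicalKrullDim y).trans hdim)
  exact IsFinite.of_isProper_of_locallyQuasiFinite g

theorem app_injective {X Y : Scheme.{u}} [IsIntegral X] [IsIntegral Y] (g : X ⟶ Y)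
    (hη : g (genericPoint X) = genericPoint Y) (U : Y.Opens) : Function.Injective (g.app U).hom := by
  refine (injective_iff_map_eq_zero _).2 fun s hs => ?_
  by_contra hne
  rcases isEmpty_or_nonempty U with hE | hU
  · exact hne (TopCat.Presheaf.section_ext Y.sheaf U s 0 fun z hz => (hE.false ⟨z, hz⟩).elim)
  · have hz : genericPoint X ∈ g ⁻¹ᵁ U := by
      show g (genericPoint X) ∈ U
      rw [hη]
      exact (genericPoint_specializes hU.some.1).mem_open U.isOpen hU.some.2
    refine NormUniv.germ_pullback_ne_zero g (fun z => inferInstance) (fun z => ⟨genericPoint X, genericPoint_specializes z, hη⟩)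
      hne (genericPoint X) hz ?_
    rw [hs, map_zero]

theorem isField_stalk_genericPoint (Z : Scheme.{u}) [IsIntegral Z] : IsField (Z.presheaf.stalk (genericPoint Z)) :=
  Field.toIsField Z.functionField

theorem isClosed_of_ne_genericPoint {Z : Scheme.{u}} [IsIntegral Z] (hdim : topologicalKrullDim Z ≤ 1) {z : Z}
    (hz : z ≠ genericPoint Z) : IsClosed ({z} : Set Z) := by
  rw [← closure_subset_iff_isClosed]
  intro w hw
  rcases AmpleDimOne.eq_or_eq_of_specializes hdim (genericPoint_specializes z) (specializes_iff_mem_closure.2 hw) with e | e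
  · exact absurd e.symm hz
  · exact e.symm

theorem dim_le_of_finite {X Y : Scheme.{u}} (b : X ⟶ Y) [IsFinite b] (hY : topologicalKrullDim Y ≤ 1) :
    topologicalKrullDim X ≤ 1 := by
  refine Unibranch.topologicalKrullDim_le_natCast (e := 1) fun n s hs => ?_
  by_contra hn
  push Not at hn
  have hne : ∀ a a' : X, a ⤳ a' → a ≠ a' → b a ≠ b a' := fun a a' h hne he => hne (by
    have hd := b.isDiscrete_preimage_singleton (b a)
    haveI := hd.to_subtype
    have h' : (⟨a, rfl⟩ : b ⁻¹' {b a}) ⤳ ⟨a', he.symm⟩ := (subtype_specializes_iff _ _).2 h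
    exact congrArg Subtype.val h'.eq)
  obtain ⟨h1, h1'⟩ := hs ⟨0, by omega⟩
  obtain ⟨h2, h2'⟩ := hs ⟨1, by omega⟩
  rcases AmpleDimOne.eq_or_eq_of_specializes hY (h1.map b.continuous) (h2.map b.continuous) with e | e
  · exact hne _ _ h1 h1' e
  · exact hne _ _ h2 h2' e

theorem isPrincipalIdealRing_stalk {X : Scheme.{u}} [IsLocallyNoetherian X] (hdim : topologicalKrullDim X ≤ 1) {x : X}
    (hreg : IsRegularLocalRing (X.presheaf.stalk x)) : IsPrincipalIdealRing (X.presheaf.stalk x) := by
  obtain ⟨_, _⟩ := RatExt.domain_valuationRing_of_regular hreg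
    ((RegDual.ringKrullDim_stalk_le_topologicalKrullDim x).trans hdim)
  infer_instance

theorem cartier_of_regular {X : Scheme.{u}} [IsIntegral X] [IsLocallyNoetherian X] (hdim : topologicalKrullDim X ≤ 1)
    (hreg : ∀ x : X, IsRegularLocalRing (X.presheaf.stalk x)) (D : X.IdealSheafData)
    (hD : genericPoint X ∉ D.support) : BlowUp.IsEffCartierIdeal D := by
  refine S1570.result X D fun x _ U hxU => ?_
  haveI := isPrincipalIdealRing_stalk hdim (hreg x)
  let J := (D.ideal U).map (X.presheaf.germ U.1 x hxU).hom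
  refine ⟨Submodule.IsPrincipal.generator J, mem_nonZeroDivisors_of_ne_zero fun h0 => hD ?_,
    (Ideal.span_singleton_generator J).symm⟩
  have hJ : J = ⊥ := (Submodule.IsPrincipal.eq_bot_iff_generator_eq_zero J).2 h0
  have hη : genericPoint X ∈ U.1 := (genericPoint_specializes x).mem_open U.1.isOpen hxU
  have hU0 : D.ideal U = ⊥ := eq_bot_iff.2 fun s hs => by
    have : (X.presheaf.germ U.1 x hxU).hom s = 0 := by
      have := Ideal.mem_map_of_mem (X.presheaf.germ U.1 x hxU).hom hs
      rwa [show (D.ideal U).map (X.presheaf.germ U.1 x hxU).hom = ⊥ from hJ] at this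
    exact germ_injective_of_isIntegral X x hxU (this.trans (map_zero _).symm)
  refine (D.mem_support_iff_of_mem hη).2 ?_
  rw [hU0]
  simp [Scheme.zeroLocus_def]

theorem wellFoundedGT_pi {ι : Type*} [Finite ι] {α : ι → Type*} [∀ i, PartialOrder (α i)] [∀ i, WellFoundedGT (α i)] :
    WellFoundedGT (∀ i, α i) := by
  haveI := Fintype.ofFinite ι
  rw [wellFoundedGT_iff_monotone_chain_condition]
  intro f
  choose N hN using fun i => wellFoundedGT_iff_monotone_chain_condition.1 (inferInstance : WellFoundedGT (α i))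
    ⟨fun n => f n i, fun a b h => f.monotone h i⟩
  refine ⟨Finset.univ.sup N, fun m hm => funext fun i => ?_⟩
  exact (hN i _ (Finset.le_sup (Finset.mem_univ i))).symm.trans (hN i m ((Finset.le_sup (Finset.mem_univ i)).trans hm))

/-- structure sheaf sections along proper maps are finite -/
theorem finite_app {X Y : Scheme.{u}} [IsLocallyNoetherian Y] (g : X ⟶ Y) [IsProper g] {U : Y.Opens}
    (hU : IsAffineOpen U) : (g.app U).hom.Finite := by
  haveI : IsLocallyNoetherian X := LocallyOfFiniteType.isLocallyNoetherian g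
  have h := W7Exist.isCoh_push_proper g (RefStalk.isCoh_structureModule (X := X))
  haveI : ((Scheme.Modules.pushforward g).obj (Coh.structureModule X)).IsQuasicoherent := h.1
  have hf : Module.Finite Γ(Y, U) Γ((Scheme.Modules.pushforward g).obj (Coh.structureModule X), U) :=
    QC.finite_sections hU h.2
  letI := (g.app U).hom.toAlgebra
  exact hf

end Groth.Agent.ResolveCurve
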