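import Groth.Agent.ResolveCurve.Basic

/-!
Resolution of curves: alterations, modifications, finite normalisation.
-/

set_option autoImplicit false
set_option backward.isDefEq.respectTransparency false
set_option backward.isDefEq.respectTransparency.types false
set_option linter.style.haveILetI false
set_option maxHeartbeats 1000000

universe u

open CategoryTheory CategoryTheory.Limits AlgebraicGeometry TopologicalSpace Opposite

noncomputable section

namespace Groth.Agent.ResolveCurve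

theorem isAlteration_of_resolution {X Y : Scheme.{u}} [IsIntegral Y] (g : X ⟶ Y) (h : IsResolution g) :
    Curv2.IsAlteration g := by
  obtain ⟨hp, hi, ⟨V, hV, hiso⟩, -⟩ := h
  haveI := hi
  refine ⟨hp, hi, inferInstance, ⟨?_⟩, V, hV, inferInstance⟩
  rw [DenseRange, dense_iff_closure_eq]
  refine Set.eq_univ_of_forall fun y => ?_
  have := (genericPoint_specializes y).mem_closed isClosed_closure
    (subset_closure ⟨genericPoint X, genericPoint_image g hV⟩ : genericPoint Y ∈ closure (Set.range g))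
  exact this

theorem isIso_over_basicOpen {N Y : Scheme.{u}} [IsIntegral N] [IsIntegral Y] (ν : N ⟶ Y) [IsAffineHom ν]
    (hη : ν (genericPoint N) = genericPoint Y) {U : Y.Opens} (hU : IsAffineOpen U) {s : Γ(Y, U)}
    (hs : ∀ b : Γ(N, ν ⁻¹ᵁ U), ∃ r, b * ν.app U s = ν.app U r) : IsIso (ν ∣_ Y.basicOpen s) := by
  let D := Y.basicOpen s
  refine isIso_morphismRestrict_of_app ν (hU.basicOpen s) ⟨app_injective ν hη _, fun y => ?_⟩
  have hle : D ≤ U := Y.basicOpen_le s
  have hD : ν ⁻¹ᵁ D = N.basicOpen (ν.app U s) := Scheme.preimage_basicOpen ν s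
  let i : ν ⁻¹ᵁ D ⟶ ν ⁻¹ᵁ U := homOfLE (ν.preimage_mono hle)
  letI := (N.presheaf.map i.op).hom.toAlgebra
  haveI := (hU.preimage ν).isLocalization_of_eq_basicOpen (ν.app U s) i hD
  obtain ⟨⟨b, ⟨_, k, rfl⟩⟩, hb⟩ := IsLocalization.surj (Submonoid.powers (ν.app U s)) y
  obtain ⟨r, hr⟩ := hs b
  have hb' : y * N.presheaf.map i.op (ν.app U s ^ k) = N.presheaf.map i.op b := hb
  have hnat : ∀ a, ν.app D (Y.presheaf.map (homOfLE hle).op a) = N.presheaf.map i.op (ν.app U a) := fun a =>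
    congrArg (fun m => m.hom a) (ν.naturality (homOfLE hle).op)
  have hu : IsUnit (Y.presheaf.map (homOfLE hle).op s) := RingedSpace.isUnit_res_basicOpen _ s
  obtain ⟨c, hc⟩ := hu.exists_right_inv
  refine ⟨Y.presheaf.map (homOfLE hle).op r * c ^ (k + 1), ?_⟩
  rw [map_mul, map_pow, hnat, ← hr, map_mul, ← hb', map_pow]
  calc y * N.presheaf.map i.op (ν.app U s) ^ k * N.presheaf.map i.op (ν.app U s) * ν.app D c ^ (k + 1)
      = y * (N.presheaf.map i.op (ν.app U s) * ν.app D c) ^ (k + 1) := by ring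
    _ = y := by rw [← hnat, ← map_mul, hc, map_one, one_pow, mul_one]

theorem exists_iso_normalization (Y : Scheme.{u}) [IsIntegral Y] [QuasiCompact (Y.fromSpecStalk (genericPoint Y))]
    [QuasiSeparated (Y.fromSpecStalk (genericPoint Y))] [IsFinite (Curv2.normalizationι Y)] :
    ∃ V : Y.Opens, (V : Set Y).Nonempty ∧ IsIso (Curv2.normalizationι Y ∣_ V) := by
  obtain ⟨U, hU, hηU, -⟩ := exists_isAffineOpen_mem_and_subset (x := genericPoint Y) (U := (⊤ : Y.Opens)) trivial
  haveI : Nonempty U := ⟨⟨_, hηU⟩⟩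
  obtain ⟨-, hfrac⟩ := NormUniv.frac_facts (X := Y) hU
  let ν := Curv2.normalizationι Y
  letI := (ν.app U).hom.toAlgebra
  haveI : Module.Finite Γ(Y, U) Γ(Curv2.normalization Y, ν ⁻¹ᵁ U) := ν.finite_app U hU
  obtain ⟨S, hS⟩ := Module.Finite.fg_top (R := Γ(Y, U)) (M := Γ(Curv2.normalization Y, ν ⁻¹ᵁ U))
  have hfrac' : ∀ a : Γ(Curv2.normalization Y, ν ⁻¹ᵁ U), ∃ r s : Γ(Y, U), s ≠ 0 ∧ a * ν.app U s = ν.app U r := hfrac
  choose r t ht hrt using hfrac'
  let s := ∏ a ∈ S, t a
  have hs0 : s ≠ 0 := Finset.prod_ne_zero_iff.2 fun a _ => ht a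
  have hs : ∀ b : Γ(Curv2.normalization Y, ν ⁻¹ᵁ U), ∃ r, b * ν.app U s = ν.app U r := fun b => by
    have hb : b ∈ Submodule.span Γ(Y, U) (S : Set Γ(Curv2.normalization Y, ν ⁻¹ᵁ U)) := by rw [hS]; trivial
    induction hb using Submodule.span_induction with
    | mem x hx =>
      obtain ⟨q, hq⟩ := Finset.dvd_prod_of_mem t (Finset.mem_coe.1 hx)
      exact ⟨r x * q, by rw [show s = t x * q from hq, map_mul, map_mul, ← mul_assoc, hrt]⟩
    | zero => exact ⟨0, by rw [zero_mul, map_zero]⟩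
    | add x y _ _ hx hy =>
      obtain ⟨p, hp⟩ := hx
      obtain ⟨q, hq⟩ := hy
      exact ⟨p + q, by rw [map_add, add_mul, hp, hq]⟩
    | smul c x _ hx =>
      obtain ⟨p, hp⟩ := hx
      exact ⟨c * p, by rw [map_mul, ← hp, ← mul_assoc]; rfl⟩
  refine ⟨Y.basicOpen s, ⟨genericPoint Y, (Scheme.mem_basicOpen _ _ _ hηU).2 ?_⟩,
    isIso_over_basicOpen ν NormSmoothBC.ι_genericPoint hU hs⟩
  obtain ⟨b, hb⟩ := (isField_stalk_genericPoint Y).mul_inv_cancel (NormUniv.germ_ne_zero hs0 hηU)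
  exact IsUnit.of_mul_eq_one _ hb

theorem resolution_of_finite_normalization (Y : Scheme.{u}) [IsIntegral Y] [IsNoetherian Y] (hdim : topologicalKrullDim Y = 1)
    [QuasiCompact (Y.fromSpecStalk (genericPoint Y))] [QuasiSeparated (Y.fromSpecStalk (genericPoint Y))]
    [IsFinite (Curv2.normalizationι Y)] : IsResolution (Curv2.normalizationι Y) := by
  haveI : IsLocallyNoetherian (Curv2.normalization Y) := LocallyOfFiniteType.isLocallyNoetherian (Curv2.normalizationι Y)
  refine ⟨inferInstance, inferInstance, exists_iso_normalization Y, fun x => ?_⟩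
  obtain ⟨h1, h2⟩ := NormSmoothBC.isNormal (X := Y) x
  haveI := h1
  haveI := h2
  exact Catenary.isRegularLocalRing_of_normal ((RegDual.ringKrullDim_stalk_le_topologicalKrullDim x).trans
    (dim_le_of_finite (Curv2.normalizationι Y) hdim.le))

theorem isFinite_normalization_of_alteration (Y : Scheme.{u}) [IsIntegral Y] [IsNoetherian Y]
    [QuasiCompact (Y.fromSpecStalk (genericPoint Y))] [QuasiSeparated (Y.fromSpecStalk (genericPoint Y))]
    {X : Scheme.{u}} (g : X ⟶ Y) (hg : Curv2.IsAlteration g) (hreg : ∀ x : X, IsRegularLocalRing (X.presheaf.stalk x)) :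
    IsFinite (Curv2.normalizationι Y) := by
  obtain ⟨hp, hi, -, hd, -⟩ := hg
  haveI := hp
  haveI := hi
  haveI := hd
  have hη : g (genericPoint X) = genericPoint Y := by
    have h : IsGenericPoint (g (genericPoint X)) (Set.univ : Set Y) := by
      have := (genericPoint_spec X).image g.continuous
      rwa [Set.image_univ, g.denseRange.closure_range] at this
    exact h.eq (genericPoint_spec Y)
  let ν := Curv2.normalizationι Y
  haveI : IsAffineHom ν := inferInstanceAs (IsAffineHom (Y.fromSpecStalk (genericPoint Y)).fromNormalization)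
  refine { finite_app := fun U hU => ?_ }
  letI := (ν.app U).hom.toAlgebra
  show Module.Finite Γ(Y, U) Γ(Curv2.normalization Y, ν ⁻¹ᵁ U)
  rcases isEmpty_or_nonempty U with hE | hne
  · haveI : Subsingleton Γ(Curv2.normalization Y, ν ⁻¹ᵁ U) := ⟨fun a b =>
      TopCat.Presheaf.section_ext (Curv2.normalization Y).sheaf _ a b fun z hz => (hE.false ⟨ν z, hz⟩).elim⟩
    infer_instance
  have hint : ∀ z : X, IsIntegrallyClosed (X.presheaf.stalk z) := fun z => by
    haveI := hreg z
    exact Groth.Agent.S9829.result _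
  obtain ⟨β, hβ⟩ := NormUniv.exists_ringHom g (fun z => inferInstance)
    (fun z => ⟨genericPoint X, genericPoint_specializes z, hη⟩) hint hU
  letI := (g.app U).hom.toAlgebra
  haveI : Module.Finite Γ(Y, U) Γ(X, g ⁻¹ᵁ U) := finite_app g hU
  haveI : IsNoetherianRing Γ(Y, U) := IsLocallyNoetherian.component_noetherian ⟨U, hU⟩
  haveI : IsNoetherian Γ(Y, U) Γ(X, g ⁻¹ᵁ U) := isNoetherian_of_isNoetherianRing_of_finite _ _
  let β' : Γ(Curv2.normalization Y, ν ⁻¹ᵁ U) →+* Γ(X, g ⁻¹ᵁ U) := β.hom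
  have hβ' : ∀ x, β' (ν.app U x) = g.app U x := fun x => congrArg (fun m => m.hom x) hβ
  let L : Γ(Curv2.normalization Y, ν ⁻¹ᵁ U) →ₐ[Γ(Y, U)] Γ(X, g ⁻¹ᵁ U) := { β' with commutes' := hβ' }
  refine Module.Finite.of_injective L.toLinearMap ((injective_iff_map_eq_zero β').2 fun a ha => ?_)
  obtain ⟨hinj', hfrac⟩ := NormUniv.frac_facts (X := Y) hU
  have hinj : Function.Injective (ν.app U).hom := hinj'
  have hfrac' : ∀ a : Γ(Curv2.normalization Y, ν ⁻¹ᵁ U), ∃ r s : Γ(Y, U), s ≠ 0 ∧ a * ν.app U s = ν.app U r := hfrac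
  obtain ⟨r, s, hs, hrs⟩ := hfrac' a
  have hr : r = 0 := app_injective g hη U (by
    rw [map_zero, ← hβ' r]
    show β' (ν.app U r) = 0
    rw [show ν.app U r = a * ν.app U s from hrs.symm, map_mul, ha, zero_mul])
  haveI : Nonempty (ν ⁻¹ᵁ U : (Curv2.normalization Y).Opens) := by
    refine ⟨⟨genericPoint _, ?_⟩⟩
    show ν (genericPoint _) ∈ U
    rw [show ν (genericPoint _) = genericPoint Y from NormSmoothBC.ι_genericPoint]
    exact (genericPoint_specializes hne.some.1).mem_open U.isOpen hne.some.2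
  rw [hr, map_zero] at hrs
  exact (mul_eq_zero.1 hrs).resolve_right fun h => hs (hinj (h.trans (map_zero _).symm))

theorem equiv_main (Y : Scheme.{u}) [IsIntegral Y] [IsNoetherian Y] (hdim : topologicalKrullDim Y = 1)
    [QuasiCompact (Y.fromSpecStalk (genericPoint Y))] [QuasiSeparated (Y.fromSpecStalk (genericPoint Y))] :
    ((∃ (X : Scheme.{u}) (g : X ⟶ Y), Curv2.IsAlteration g ∧ ∀ x : X, IsRegularLocalRing (X.presheaf.stalk x)) ↔
      (∃ (X : Scheme.{u}) (g : X ⟶ Y), IsResolution g)) ∧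
    ((∃ (X : Scheme.{u}) (g : X ⟶ Y), IsResolution g) ↔ IsFinite (Curv2.normalizationι Y)) := by
  have h21 : (∃ (X : Scheme.{u}) (g : X ⟶ Y), IsResolution g) →
      (∃ (X : Scheme.{u}) (g : X ⟶ Y), Curv2.IsAlteration g ∧ ∀ x : X, IsRegularLocalRing (X.presheaf.stalk x)) :=
    fun ⟨X, g, h⟩ => ⟨X, g, isAlteration_of_resolution g h, h.2.2.2⟩
  have h14 : (∃ (X : Scheme.{u}) (g : X ⟶ Y), Curv2.IsAlteration g ∧ ∀ x : X, IsRegularLocalRing (X.presheaf.stalk x)) →
      IsFinite (Curv2.normalizationι Y) := fun ⟨_, g, h, hr⟩ => isFinite_normalization_of_alteration Y g h hr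
  have h42 : IsFinite (Curv2.normalizationι Y) → (∃ (X : Scheme.{u}) (g : X ⟶ Y), IsResolution g) :=
    fun h => ⟨_, _, resolution_of_finite_normalization Y hdim⟩
  exact ⟨⟨fun h => h42 (h14 h), h21⟩, ⟨fun h => h14 (h21 h), h42⟩⟩

end Groth.Agent.ResolveCurve
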